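import Mathlib

set_option autoImplicit false

/-!
Complements in the subgroup lattice obtained from an interval below a unique maximal subgroup.
-/

namespace CfsgLib.Lattice

open scoped Pointwise

variable {G : Type*} [Group G]

/-- If `X` lies in a unique maximal subgroup `M` and `[T, X]` is complemented, then every `H` not
contained in `M` and meeting `T` trivially has a complement. -/
theorem exists_compl_of_interval [Finite G] (T X M : Subgroup G)
    (hTX : T ≤ X) (hint : ∀ Y : Subgroup G, T ≤ Y → Y ≤ X →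
      ∃ C : Subgroup G, T ≤ C ∧ C ≤ X ∧ Y ⊔ C = X ∧ Y ⊓ C = T)
    (huniq : ∀ M' : Subgroup G, IsCoatom M' → X ≤ M' → M' = M)
    (H : Subgroup G) (hH : ¬ H ≤ M) (hHT : H ⊓ T = ⊥) :
    ∃ C : Subgroup G, H ⊔ C = ⊤ ∧ H ⊓ C = ⊥ := by
  have hHX : H ⊔ X = ⊤ := by
    rcases eq_top_or_exists_le_coatom (H ⊔ X) with h | ⟨M', hM', hle⟩
    · exact h
    · exact absurd (huniq M' hM' (le_sup_right.trans hle) ▸ le_sup_left.trans hle) hH
  obtain ⟨C, hTC, hCX, hsup, hinf⟩ := hint (T ⊔ H ⊓ X) le_sup_left (sup_le hTX inf_le_right)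
  refine ⟨C, top_le_iff.mp ?_, le_bot_iff.mp ?_⟩
  · rw [← hHX]
    refine sup_le le_sup_left ?_
    rw [← hsup]
    exact sup_le (sup_le (hTC.trans le_sup_right) (inf_le_left.trans le_sup_left)) le_sup_right
  · have h1 : H ⊓ C ≤ T := by
      rw [← hinf]
      exact le_inf ((le_inf inf_le_left (inf_le_right.trans hCX)).trans le_sup_right) inf_le_right
    calc H ⊓ C ≤ H ⊓ T := le_inf inf_le_left h1
      _ = ⊥ := hHT

/-- Having a complement is invariant under automorphisms. -/
theorem exists_compl_of_map (φ : G ≃* G) (H : Subgroup G)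
    (h : ∃ C : Subgroup G, H.map φ.toMonoidHom ⊔ C = ⊤ ∧ H.map φ.toMonoidHom ⊓ C = ⊥) :
    ∃ C : Subgroup G, H ⊔ C = ⊤ ∧ H ⊓ C = ⊥ := by
  obtain ⟨C, h1, h2⟩ := h
  refine ⟨C.comap φ.toMonoidHom, ?_, ?_⟩ <;>
    apply Subgroup.map_injective (f := φ.toMonoidHom) φ.injective
  · rw [Subgroup.map_sup, Subgroup.map_comap_eq_self_of_surjective φ.surjective, h1,
      Subgroup.map_top_of_surjective _ φ.surjective]
  · rw [Subgroup.map_inf _ _ _ φ.injective, Subgroup.map_comap_eq_self_of_surjective φ.surjective,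
      h2, Subgroup.map_bot]

/-- A complement modulo a normal subgroup from a complement. -/
theorem exists_compl_quotient (N H C : Subgroup G) [N.Normal] (hN : N ≤ H)
    (h1 : H ⊔ C = ⊤) (h2 : H ⊓ C = ⊥) :
    IsCompl (H.map (QuotientGroup.mk' N)) (C.map (QuotientGroup.mk' N)) := by
  have hsurj := QuotientGroup.mk'_surjective N
  constructor
  · rw [disjoint_iff, eq_bot_iff]
    rintro _ ⟨⟨h, hh, rfl⟩, c, hc, hce⟩
    have hn : c⁻¹ * h ∈ N := QuotientGroup.eq.mp hce
    have hcH : c ∈ H := by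
      have := mul_mem hh (inv_mem (hN hn))
      simpa [mul_inv_rev] using this
    have hc1 : c = 1 := by
      have : c ∈ H ⊓ C := ⟨hcH, hc⟩
      rwa [h2] at this
    rw [Subgroup.mem_bot, ← hce, hc1, map_one]
  · rw [codisjoint_iff, ← Subgroup.map_sup, h1, Subgroup.map_top_of_surjective _ hsurj]

/-- The interval `[N, X]` is complemented when the lattice of `X ⧸ N` is. -/
theorem interval_of_quotient (X N : Subgroup G) [(N.subgroupOf X).Normal] (hNX : N ≤ X)
    (hK : ComplementedLattice (Subgroup (X ⧸ N.subgroupOf X))) (Y : Subgroup G)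
    (hNY : N ≤ Y) (hYX : Y ≤ X) :
    ∃ C : Subgroup G, N ≤ C ∧ C ≤ X ∧ Y ⊔ C = X ∧ Y ⊓ C = N := by
  set q := QuotientGroup.mk' (N.subgroupOf X) with hq
  have hs : Function.Surjective q := QuotientGroup.mk'_surjective _
  obtain ⟨C', hC'⟩ := exists_isCompl ((Y.subgroupOf X).map q)
  have hY : ((Y.subgroupOf X).map q).comap q = Y.subgroupOf X := by
    apply Subgroup.comap_map_eq_self
    rw [hq, QuotientGroup.ker_mk']
    exact Subgroup.comap_mono hNY
  have hNC : N.subgroupOf X ≤ C'.comap q := by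
    have h := MonoidHom.ker_le_comap q C'
    rwa [hq, QuotientGroup.ker_mk'] at h
  have hYm : (Y.subgroupOf X).map X.subtype = Y := by rw [Subgroup.map_subgroupOf_eq_of_le hYX]
  refine ⟨(C'.comap q).map X.subtype, ?_, Subgroup.map_subtype_le _, ?_, ?_⟩
  · exact le_of_eq_of_le (Subgroup.map_subgroupOf_eq_of_le hNX).symm (Subgroup.map_mono hNC)
  · conv_lhs => rw [← hYm]
    rw [← Subgroup.map_sup]
    have h : Y.subgroupOf X ⊔ C'.comap q = ⊤ := by
      rw [← hY, Subgroup.comap_sup_eq _ _ _ hs, hC'.sup_eq_top, Subgroup.comap_top]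
    rw [h, ← MonoidHom.range_eq_map, Subgroup.range_subtype]
  · conv_lhs => rw [← hYm]
    rw [← Subgroup.map_inf _ _ _ X.subtype_injective]
    have h : Y.subgroupOf X ⊓ C'.comap q = N.subgroupOf X := by
      rw [← hY, ← Subgroup.comap_inf, hC'.inf_eq_bot, MonoidHom.comap_bot, hq, QuotientGroup.ker_mk']
    rw [h, Subgroup.map_subgroupOf_eq_of_le hNX]

end CfsgLib.Lattice
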