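import Mathlib

/-!
Congruence classes modulo two of short vectors in an even rootless lattice of rank 24.
-/

set_option autoImplicit false

namespace CfsgLib.EvenFrames

open Matrix

variable (B : Matrix (Fin 24) (Fin 24) ℤ)

/-- the quadratic form -/
def q (x : Fin 24 → ℤ) : ℤ := x ⬝ᵥ (B *ᵥ x)

/-- the bilinear form -/
def b (x y : Fin 24 → ℤ) : ℤ := x ⬝ᵥ (B *ᵥ y)

/-- reduction modulo two -/
def cls (x : Fin 24 → ℤ) : Fin 24 → ZMod 2 := fun i => (x i : ZMod 2)

theorem cls_eq_iff {x y : Fin 24 → ℤ} : cls x = cls y ↔ ∀ i, (2 : ℤ) ∣ (x - y) i := by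
  constructor
  · intro h i
    rw [Pi.sub_apply, ← Int.modEq_iff_dvd]
    exact ((ZMod.intCast_eq_intCast_iff _ _ 2).1 (congrFun h i)).symm
  · intro h
    funext i
    exact (ZMod.intCast_eq_intCast_iff _ _ 2).2 (Int.modEq_iff_dvd.2 (h i)).symm

theorem q_add (hsymm : B.IsSymm) (x y : Fin 24 → ℤ) : q B (x + y) = q B x + 2 * b B x y + q B y := by
  have h : y ⬝ᵥ (B *ᵥ x) = x ⬝ᵥ (B *ᵥ y) := by
    rw [dotProduct_mulVec, ← mulVec_transpose, hsymm.eq, dotProduct_comm]
  simp only [q, b, mulVec_add, add_dotProduct, dotProduct_add, h]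
  ring

theorem q_smul (c : ℤ) (x : Fin 24 → ℤ) : q B (c • x) = c * c * q B x := by
  simp only [q, mulVec_smul, smul_dotProduct, dotProduct_smul, smul_eq_mul]
  ring

theorem b_neg_right (x y : Fin 24 → ℤ) : b B x (-y) = -b B x y := by
  simp [b, mulVec_neg]

theorem q_neg (x : Fin 24 → ℤ) : q B (-x) = q B x := by simp [q, mulVec_neg]

theorem frames (hsymm : B.IsSymm) (hpos : ∀ x : Fin 24 → ℤ, x ≠ 0 → 0 < q B x)
    (heven : ∀ x, (2 : ℤ) ∣ q B x) (h2 : ∀ x, q B x ≠ 2) (h4 : {x | q B x = 4}.ncard = 196560)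
    (h6 : {x | q B x = 6}.ncard = 16773120) (h8 : {x | q B x = 8}.ncard = 398034000)
    (x : Fin 24 → ℤ) (hx : q B x = 8) : {y | q B y = 8 ∧ ∀ i, (2 : ℤ) ∣ (x - y) i}.ncard = 48 := by
  classical
  have hq4 : ∀ z : Fin 24 → ℤ, z ≠ 0 → 4 ≤ q B z := fun z hz => by
    have := hpos z hz; have := heven z; have := h2 z
    omega
  -- two congruent vectors
  have hpair : ∀ y y' : Fin 24 → ℤ, cls y = cls y' → y' ≠ y → y' ≠ -y →
      16 ≤ q B y + q B y' - 2 * b B y y' ∧ 16 ≤ q B y + q B y' + 2 * b B y y' := by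
    intro y y' h h1 h2
    obtain ⟨z, hz⟩ : ∃ z : Fin 24 → ℤ, y - y' = (2 : ℤ) • z := by
      choose z hz using cls_eq_iff.1 h
      exact ⟨z, funext fun i => by simpa using hz i⟩
    constructor
    · have e := q_add B hsymm y (-y')
      rw [q_neg, b_neg_right, ← sub_eq_add_neg, hz, q_smul] at e
      have hz0 : z ≠ 0 := fun e0 => h1 (sub_eq_zero.1 (by rw [hz, e0, smul_zero])).symm
      have := hq4 z hz0
      omega
    · have e := q_add B hsymm y y'
      have hz' : y + y' = (2 : ℤ) • (y - z) := by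
        rw [smul_sub, ← hz, two_smul]; abel
      rw [hz', q_smul] at e
      have hz0 : y - z ≠ 0 := fun e0 => h2 (eq_neg_of_add_eq_zero_right (by rw [hz', e0, smul_zero]))
      have := hq4 _ hz0
      omega
  have hfin : ∀ (n : ℤ) (c : ℕ), {x | q B x = n}.ncard = c → c ≠ 0 → {x | q B x = n}.Finite :=
    fun n c h hc => Set.finite_of_ncard_ne_zero (h ▸ hc)
  set S4 := (hfin 4 _ h4 (by norm_num)).toFinset with hS4
  set S6 := (hfin 6 _ h6 (by norm_num)).toFinset with hS6
  set S8 := (hfin 8 _ h8 (by norm_num)).toFinset with hS8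
  have m4 : ∀ y, y ∈ S4 ↔ q B y = 4 := fun y => by simp [hS4]
  have m6 : ∀ y, y ∈ S6 ↔ q B y = 6 := fun y => by simp [hS6]
  have m8 : ∀ y, y ∈ S8 ↔ q B y = 8 := fun y => by simp [hS8]
  have c4 : S4.card = 196560 := by rw [hS4, ← Set.ncard_eq_toFinset_card _ _, h4]
  have c6 : S6.card = 16773120 := by rw [hS6, ← Set.ncard_eq_toFinset_card _ _, h6]
  have c8 : S8.card = 398034000 := by rw [hS8, ← Set.ncard_eq_toFinset_card _ _, h8]
  -- small norms: fibres of size two
  have hsmall : ∀ (S : Finset (Fin 24 → ℤ)), (∀ y ∈ S, q B y = 4) ∨ (∀ y ∈ S, q B y = 6) →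
      S.card ≤ 2 * (S.image cls).card := by
    intro S hS
    refine Finset.card_le_mul_card_image S 2 fun c hc => ?_
    obtain ⟨y, hy, rfl⟩ := Finset.mem_image.1 hc
    refine (Finset.card_le_card (t := {y, -y}) fun y' hy' => ?_).trans Finset.card_le_two
    rw [Finset.mem_filter] at hy'
    simp only [Finset.mem_insert, Finset.mem_singleton]
    by_contra hne
    push Not at hne
    have := hpair y y' hy'.2.symm hne.1 hne.2
    rcases hS with hS | hS <;> · have := hS y hy; have := hS y' hy'.1; omega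
  -- norm eight: fibres of size at most 48
  have hfib : ∀ c, (S8.filter fun y => cls y = c).card ≤ 48 := by
    intro c
    set F := S8.filter fun y => cls y = c with hF
    set T := F.filter fun y => toLex (-y) < toLex y with hT
    have hsub : F ⊆ T ∪ T.image (fun y => -y) := by
      intro y hy
      have hy' := hy
      rw [hF, Finset.mem_filter, m8] at hy'
      have hne : toLex (-y) ≠ toLex y := fun e => by
        have h0 : y = 0 := funext fun i => by
          have := congrFun (toLex.injective e) i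
          simp only [Pi.neg_apply, Pi.zero_apply] at this ⊢
          omega
        rw [h0] at hy'
        simp [q] at hy'
      rcases lt_or_gt_of_ne hne with h | h
      · exact Finset.mem_union_left _ (Finset.mem_filter.2 ⟨hy, h⟩)
      · refine Finset.mem_union_right _ (Finset.mem_image.2 ⟨-y, ?_, neg_neg y⟩)
        rw [hT, Finset.mem_filter, neg_neg, hF, Finset.mem_filter, m8, q_neg]
        refine ⟨⟨hy'.1, hy'.2 ▸ funext fun i => ?_⟩, h⟩
        simp [cls]
    have hli : LinearIndependent ℤ (fun t : T => (t : Fin 24 → ℤ)) := by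
      rw [Fintype.linearIndependent_iff]
      intro g hg t
      have horth : ∀ u : T, b B (t : Fin 24 → ℤ) u = if u = t then 8 else 0 := by
        intro u
        have ht := t.2
        have hu := u.2
        simp only [hT, hF, Finset.mem_filter, m8] at ht hu
        by_cases hut : u = t
        · rw [if_pos hut, hut]; exact ht.1.1
        · rw [if_neg hut]
          have hne : (u : Fin 24 → ℤ) ≠ t := fun e => hut (Subtype.ext e)
          have hne' : (u : Fin 24 → ℤ) ≠ -t := fun e => by
            have h1 := hu.2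
            rw [e, neg_neg] at h1
            exact lt_asymm h1 ht.2
          have := hpair t u (ht.1.2.trans hu.1.2.symm) hne hne'
          omega
      have := congrArg (b B (t : Fin 24 → ℤ)) hg
      have hlin : b B (t : Fin 24 → ℤ) (∑ u, g u • (u : Fin 24 → ℤ)) = ∑ u, g u * b B (t : Fin 24 → ℤ) u := by
        simp [b, Matrix.mulVec_sum, dotProduct_sum, mulVec_smul, -zsmul_eq_mul]
      rw [hlin] at this
      simp only [horth, mul_ite, mul_zero, Finset.sum_ite_eq', Finset.mem_univ, if_true] at this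
      have h0 : b B (t : Fin 24 → ℤ) 0 = 0 := by simp [b]
      rw [h0] at this
      omega
    have hT24 : T.card ≤ 24 := by
      have := hli.fintype_card_le_finrank
      rwa [Fintype.card_coe, Module.finrank_pi, Fintype.card_fin] at this
    refine (Finset.card_le_card hsub).trans ((Finset.card_union_le _ _).trans ?_)
    have : (T.image fun y => -y).card ≤ T.card := Finset.card_image_le
    omega
  -- the classes are disjoint and nonzero
  have hnz : ∀ y, q B y ≤ 8 → q B y ≠ 0 → cls y ≠ 0 := by
    intro y h8' h0 h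
    obtain ⟨z, hz⟩ : ∃ z : Fin 24 → ℤ, y = (2 : ℤ) • z := by
      choose z hz using (cls_eq_iff (x := y) (y := 0)).1 (h.trans (by funext i; simp [cls]))
      exact ⟨z, funext fun i => by simpa using hz i⟩
    have hz0 : z ≠ 0 := fun e => h0 (by rw [hz, e]; simp [q])
    have := hq4 z hz0
    rw [hz, q_smul] at h8'
    omega
  have hdis : ∀ y y', q B y ≤ 8 → q B y' ≤ 8 → cls y = cls y' → q B y = q B y' := by
    intro y y' h h' hc
    by_contra hne
    have h1 : y' ≠ y := fun e => hne (by rw [e])
    have h2' : y' ≠ -y := fun e => hne (by rw [e, q_neg])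
    have := hpair y y' hc h1 h2'
    omega
  have d46 : Disjoint (S4.image cls) (S6.image cls) := by
    rw [Finset.disjoint_left]
    simp only [Finset.mem_image, m4, m6]
    rintro c ⟨y, hy, rfl⟩ ⟨y', hy', h⟩
    have := hdis y' y (by omega) (by omega) h
    omega
  have d8 : Disjoint (S4.image cls ∪ S6.image cls) (S8.image cls) := by
    rw [Finset.disjoint_left]
    simp only [Finset.mem_union, Finset.mem_image, m4, m6, m8]
    rintro c (⟨y, hy, rfl⟩ | ⟨y, hy, rfl⟩) ⟨y', hy', h⟩ <;>
      · have := hdis y' y (by omega) (by omega) h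
        omega
  have htot : 1 + ((S4.image cls).card + (S6.image cls).card + (S8.image cls).card) ≤ 2 ^ 24 := by
    rw [← Finset.card_union_of_disjoint d46, ← Finset.card_union_of_disjoint d8,
      show 1 + ((S4.image cls ∪ S6.image cls) ∪ S8.image cls).card =
        (insert 0 ((S4.image cls ∪ S6.image cls) ∪ S8.image cls)).card from ?_]
    · exact (Finset.card_le_univ _).trans (le_of_eq (by simp))
    · rw [Finset.card_insert_of_notMem, add_comm]
      simp only [Finset.mem_union, Finset.mem_image, m4, m6, m8]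
      rintro ((⟨y, hy, h⟩ | ⟨y, hy, h⟩) | ⟨y, hy, h⟩) <;> exact hnz y (by omega) (by omega) h
  have hc4 := hsmall S4 (Or.inl fun y hy => (m4 y).1 hy)
  have hc6 := hsmall S6 (Or.inr fun y hy => (m6 y).1 hy)
  have hsum := Finset.card_eq_sum_card_image cls S8
  have hle : (S8.image cls).card ≤ 8292375 := by norm_num at htot; omega
  have key : ∀ c ∈ S8.image cls, (S8.filter fun y => cls y = c).card = 48 := by
    intro c hc
    refine le_antisymm (hfib c) ?_
    by_contra hlt
    have : ∑ d ∈ S8.image cls, (S8.filter fun y => cls y = d).card < ∑ _d ∈ S8.image cls, 48 :=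
      Finset.sum_lt_sum (fun d _ => hfib d) ⟨c, hc, not_le.1 hlt⟩
    rw [← hsum, Finset.sum_const, smul_eq_mul, c8] at this
    omega
  rw [← key (cls x) (Finset.mem_image_of_mem _ ((m8 x).2 hx)), ← Set.ncard_coe_finset]
  congr 1
  ext y
  simp [m8, cls_eq_iff, dvd_sub_comm]

end CfsgLib.EvenFrames
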